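import Groth.Agent.L22.CurveDeg.NonSpecial
import Groth.Agent.L21.RR.BaseChange
import Groth.Agent.L18.AmplePull
import Groth.Agent.L16.SecComp.Smooth
import Groth.Agent.L21.Curve.NormalConnected
import Groth.Agent.L21.CurvFib.DimExt
import Groth.Agent.L21.PlaneCurve.Plane
import Groth.Agent.S18366

/-!
# Twisting by rational points of a curve over a separably closed field
-/

set_option autoImplicit false
set_option linter.style.haveILetI false
set_option linter.unusedSectionVars false
set_option backward.isDefEq.respectTransparency false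

universe u

open CategoryTheory CategoryTheory.Limits AlgebraicGeometry TopologicalSpace Opposite

noncomputable section

namespace Groth.L02.Twist

open Groth.L21.RR (h hk st oneSec e0 mulS)

variable (k : Type u) [Field k] [IsSepClosed k] {X : Scheme.{u}} [X.Over (Spec (CommRingCat.of k))]
  [IsIntegral X] [IsProper (X ↘ Spec (CommRingCat.of k))] [Smooth (X ↘ Spec (CommRingCat.of k))]

/-- A rational point in every non-empty open. -/
theorem exists_section_mem (U : X.Opens) (hU : (U : Set X).Nonempty) :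
    ∃ x : Spec (CommRingCat.of k) ⟶ X, x ≫ (X ↘ Spec (CommRingCat.of k)) = 𝟙 _ ∧
      ∀ p, x p ∈ U := by
  haveI := Groth.L21.RR.isNoetherian_of_proper (X := X) k
  haveI : Nonempty U.toScheme := hU.to_subtype
  haveI : CompactSpace U.toScheme := isCompact_iff_compactSpace.1 (NoetherianSpace.isCompact _)
  haveI : QuasiCompact (U.ι ≫ (X ↘ Spec (CommRingCat.of k))) :=
    (quasiCompact_iff_compactSpace _).2 inferInstance
  haveI : GeometricallyReduced (U.ι ≫ (X ↘ Spec (CommRingCat.of k))) :=
    Groth.L16.SecComp.geometricallyReduced_of_smooth _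
  obtain ⟨s, hs⟩ := Groth.Agent.S18366.result k (U.ι ≫ (X ↘ Spec (CommRingCat.of k)))
  refine ⟨s ≫ U.ι, by rw [Category.assoc]; exact hs, fun p => ?_⟩
  show U.ι (s p) ∈ U
  exact (s p).2

/-- The global functions are the constants. -/
theorem h0_structure : h k 0 (Coh.structureModule X) = 1 := by
  classical
  let f := X ↘ Spec (CommRingCat.of k)
  let R := Γ(X, ⊤)
  let ι : k →+* R := (f.appTop).hom.comp (Scheme.ΓSpecIso (CommRingCat.of k)).inv.hom
  letI : Algebra k R := ι.toAlgebra
  haveI : Algebra.IsIntegral k R := ⟨by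
    exact (RingHom.IsIntegral.trans _ _ (RingHom.isIntegral_of_surjective _
      (Scheme.ΓSpecIso (CommRingCat.of k)).symm.commRingCatIsoToRingEquiv.surjective)
      (isIntegral_appTop_of_universallyClosed f))⟩
  haveI : IsDomain R := inferInstanceAs (IsDomain Γ(X, ⊤))
  obtain ⟨x, hx, -⟩ := exists_section_mem k (⊤ : X.Opens) ⟨genericPoint X, trivial⟩
  let ρ : R →+* k := (Scheme.ΓSpecIso (CommRingCat.of k)).hom.hom.comp x.appTop.hom
  have hρ : ∀ c, ρ (ι c) = c := fun c => by
    show (Scheme.ΓSpecIso (CommRingCat.of k)).hom (x.appTop (f.appTop ((Scheme.ΓSpecIso (CommRingCat.of k)).inv c))) = c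
    rw [← CommRingCat.comp_apply f.appTop, ← Scheme.Hom.comp_appTop, hx, Scheme.Hom.id_appTop]
    exact ConcreteCategory.congr_hom (Scheme.ΓSpecIso (CommRingCat.of k)).inv_hom_id c
  have hinj : Function.Injective ρ := by
    have hF : IsField R := isField_of_isIntegral_of_isField' (Field.toIsField k)
    letI := hF.toField
    exact RingHom.injective ρ
  have hb : Function.Surjective (algebraMap k R) := fun r => ⟨ρ r, hinj (hρ (ρ r))⟩
  let hT : IsTerminal (⊤ : TopologicalSpace.Opens X) :=
    IsTerminal.ofUniqueHom (fun U => homOfLE le_top) (fun _ _ => rfl)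
  let F := Coh.toAb (Coh.structureModule X)
  let e : Coh.HH X (Coh.structureModule X) 0 ≃+ Coh.Γtop X := Sheaf.H.equiv₀ F hT
  have he : ∀ (c : k) x, e (c • x) = Coh.toGlobal (X ↘ Spec (CommRingCat.of k)) c * e x := fun c x => by
    show Sheaf.H.equiv₀ F hT (Sheaf.H.map (Coh.smulAb (Coh.structureModule X) _) 0 x) = _
    rw [← Sheaf.H.equiv₀_naturality]
    refine (Coh.smulAb_app (Coh.structureModule X) _ (Opposite.op ⊤) _).trans ?_
    show Coh.resTop X (Opposite.op ⊤) _ * _ = _
    congr 1
    simp [Coh.resTop]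
  refine finrank_eq_one_iff'.2 ⟨e.symm 1, fun h0 => ?_, fun w => ?_⟩
  · have : (1 : R) = 0 := by
      have h1 := congrArg e h0
      rw [AddEquiv.apply_symm_apply, map_zero] at h1
      exact h1
    exact one_ne_zero this
  · obtain ⟨c, hc⟩ := hb (e w)
    refine ⟨c, e.injective ?_⟩
    rw [he, AddEquiv.apply_symm_apply, mul_one]
    exact hc

/-- A rational point outside a finite set gives an invertible module of degree one with a section vanishing only
there. -/
theorem exists_point_module (hd : topologicalKrullDim X = 1) (F : Set X) (hF : F.Finite) :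
    ∃ (z : X) (N : X.Modules) (s : Coh.structureModule X ⟶ N), z ∉ F ∧ IsClosed ({z} : Set X) ∧
      PicF.IsInvertible N ∧ Curv2.deg k X N 1 = 1 ∧ s ≠ 0 ∧ ∀ y, y ≠ z → Function.Surjective (st s y) := by
  haveI := Groth.L21.RR.isNoetherian_of_proper (X := X) k
  let C : Set X := {y | y ∈ F ∧ IsClosed ({y} : Set X)}
  have hC : IsClosed C := by
    rw [← Set.biUnion_of_singleton C]
    exact (hF.subset fun y hy => hy.1).isClosed_biUnion fun y hy => hy.2
  have hgen : ¬ IsClosed ({genericPoint X} : Set X) := Groth.L22.CurveDeg.generic_not_isClosed hd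
  let U : X.Opens := ⟨Cᶜ, hC.isOpen_compl⟩
  obtain ⟨x, hx, hxU⟩ := exists_section_mem k U ⟨genericPoint X, fun h => hgen h.2⟩
  let p₀ : Spec (CommRingCat.of k) := IsLocalRing.closedPoint k
  have hz : IsClosed ({x p₀} : Set X) := by
    haveI : IsClosedImmersion (x ≫ (X ↘ Spec (CommRingCat.of k))) := by rw [hx]; infer_instance
    haveI : IsClosedImmersion x := IsClosedImmersion.of_comp x (X ↘ Spec (CommRingCat.of k))
    have := x.isClosedEmbedding.isClosedMap {p₀} (IsLocalRing.isClosed_singleton_closedPoint k)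
    rwa [Set.image_singleton] at this
  have hzF : x p₀ ∉ F := fun h => hxU p₀ ⟨h, hz⟩
  haveI : IsRegularLocalRing (X.presheaf.stalk (x p₀)) :=
    Groth.L21.Smooth.regular_stalk (X ↘ Spec (CommRingCat.of k)) _
  obtain ⟨N, s, -, -, hN, hdeg, hs, hsy, -⟩ := Groth.L21.RR.exists_deg_one_section k hd.le hz
    (fun h => hgen (h ▸ hz)) (Groth.L21.RR.isRat_of_section k x hx p₀)
    (Groth.L21.SmoothDescent.isPrincipal_of_dim_le_one
      ((Groth.L21.SmoothDescent.ringKrullDim_stalk_le _).trans hd.le))
  exact ⟨x p₀, N, s, hzF, hz, hN, hdeg, hs, hsy⟩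

section Twist

variable {K : Type u} [Field K] [Algebra k K] {Y : Scheme.{u}} [Y.Over (Spec (CommRingCat.of K))]
  [IsProper (Y ↘ Spec (CommRingCat.of K))] (g : Y ⟶ X)
  (sq : IsPullback g (Y ↘ Spec (CommRingCat.of K)) (X ↘ Spec (CommRingCat.of k))
    (Spec.map (CommRingCat.ofHom (algebraMap k K))))

include sq in
theorem isIntegral_pullback (hd : topologicalKrullDim X = 1) : IsIntegral Y := by
  haveI : Smooth (Y ↘ Spec (CommRingCat.of K)) := MorphismProperty.of_isPullback (P := @Smooth) sq inferInstance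
  haveI := Groth.L21.RR.isNoetherian_of_proper (X := Y) K
  haveI : ConnectedSpace Y := Groth.L21.PlaneCurve.connectedSpace_of_h0_eq_one (k := K)
    ((Groth.L21.RR.h_structure_bc g sq 0).trans (h0_structure k))
  exact Groth.L21.NormalTotal.isIntegral_of_connected fun y =>
    Groth.L21.Smooth.isDomain_stalk (Y ↘ Spec (CommRingCat.of K)) y

variable [IsIntegral Y]

/-- The twist. -/
abbrev tw (L : Y.Modules) (L₀ : X.Modules) : Y.Modules := CohB1.tensorMod L ((Scheme.Modules.pullback g).obj L₀)

theorem isInvertible_tw {L : Y.Modules} (hL : PicF.IsInvertible L) {L₀ : X.Modules} (hL₀ : PicF.IsInvertible L₀) :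
    PicF.IsInvertible (tw g L L₀) :=
  Groth.L18.GenLoc.isInvertible_tensor hL (Groth.L18.Ample.isInvertible_pullback g hL₀)

/-- Twists compose. -/
def twTensor (L : Y.Modules) (A B : X.Modules) : tw g L (CohB1.tensorMod A B) ≅ tw g (tw g L A) B :=
  Groth.L00.Tensor.tensorIso (Iso.refl L) (Groth.L29.DC.PullTensor.pullTensor g A B).symm ≪≫
    (Groth.L00.Tensor.tensorAssoc L _ _).symm

/-- The pullback of a section. -/
def pullSec {N : X.Modules} (s : Coh.structureModule X ⟶ N) :
    Coh.structureModule Y ⟶ (Scheme.Modules.pullback g).obj N := Groth.L18.Ample.pullHom g s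

theorem surjective_pullSec {N : X.Modules} (hN : PicF.IsInvertible N) (s : Coh.structureModule X ⟶ N) (y : Y)
    (hy : Function.Surjective (st s (g y))) : Function.Surjective (st (pullSec g s) y) := by
  refine (Groth.L21.RR.mem_genLocus_iff (Groth.L18.Ample.isInvertible_pullback g hN) _ y).1 ?_
  rw [pullSec, Groth.L18.Ample.genLocus_pullHom g hN s]
  exact (Groth.L21.RR.mem_genLocus_iff hN s _).2 hy

theorem pullSec_ne_zero {N : X.Modules} (hN : PicF.IsInvertible N) (s : Coh.structureModule X ⟶ N) (y : Y)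
    (hy : Function.Surjective (st s (g y))) : pullSec g s ≠ 0 := fun h0 => by
  have hsur := surjective_pullSec g hN s y hy
  obtain ⟨α, hα⟩ := Groth.L21.RR.exists_frame_stalk (Groth.L18.Ample.isInvertible_pullback g hN) y
  obtain ⟨v, hv⟩ := hsur α
  rw [h0] at hv
  have hz : st (0 : Coh.structureModule Y ⟶ (Scheme.Modules.pullback g).obj N) y v = 0 := by
    rw [st, Functor.map_zero]; rfl
  rw [hz] at hv
  have := hα.1 (a₁ := 1) (a₂ := 0) (show (1 : Y.presheaf.stalk y) • α = (0 : Y.presheaf.stalk y) • α by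
    rw [← hv, smul_zero, smul_zero])
  exact one_ne_zero this

include sq in
theorem deg_tw_tensor (hdY : topologicalKrullDim Y ≤ 1) {L : Y.Modules} (hL : PicF.IsInvertible L)
    {A N : X.Modules} (hA : PicF.IsInvertible A) (hN : PicF.IsInvertible N) (s : Coh.structureModule X ⟶ N) (y : Y)
    (hy : Function.Surjective (st s (g y))) :
    Curv2.deg K Y (tw g L (CohB1.tensorMod A N)) 1 = Curv2.deg K Y (tw g L A) 1 + Curv2.deg k X N 1 := by
  rw [Groth.L21.RR.deg_congr K (twTensor g L A N),
    Groth.L22.CurveDeg.deg_tensor_of_section hdY (isInvertible_tw g hL hA)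
      (Groth.L18.Ample.isInvertible_pullback g hN) (pullSec_ne_zero g hN s y hy),
    Groth.L21.RR.deg_pullback g sq hN]

include sq in
/-- Removing a rational point. -/
theorem exists_drop (hd : topologicalKrullDim X = 1) (hdY : topologicalKrullDim Y = 1) {L : Y.Modules}
    (hL : PicF.IsInvertible L) {A : X.Modules} (hA : PicF.IsInvertible A) {m : ℕ} (h0 : h K 0 (tw g L A) = m + 1)
    (h1 : Subsingleton (Coh.HH Y (tw g L A) 1)) :
    ∃ A' : X.Modules, PicF.IsInvertible A' ∧ h K 0 (tw g L A') = m ∧ Subsingleton (Coh.HH Y (tw g L A') 1) := by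
  haveI := Groth.L21.RR.isNoetherian_of_proper (X := X) k
  haveI := Groth.L21.RR.isNoetherian_of_proper (X := Y) K
  have hM : PicF.IsInvertible (tw g L A) := isInvertible_tw g hL hA
  have hMc := Groth.L16.ProperFinite.isCoh_of_isInvertible hM
  haveI := Groth.L21.RR.finite_HH' K hMc 0
  haveI : Nontrivial (Coh.HH Y (tw g L A) 0) := Module.nontrivial_of_finrank_pos (R := K) (by
    simp only [h] at h0; omega)
  obtain ⟨φ, hφ⟩ := Groth.L21.RR.exists_hom_ne_zero (L := tw g L A)
  have hη : genericPoint Y ∈ CohB1.genLocus _ φ := (Groth.L21.RR.mem_genLocus_iff hM φ _).2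
    (Groth.L21.RR.surjective_st_of_not_closed hdY.le hM hφ (Groth.L22.CurveDeg.generic_not_isClosed hdY))
  let Bad : Set Y := {y | y ∉ CohB1.genLocus _ φ}
  have hBadc : IsClosed Bad := (CohB1.genLocus (tw g L A) φ).2.isClosed_compl
  let F : Set (⊤ : TopologicalSpace.Opens Y.toTopCat) := Subtype.val ⁻¹' Bad
  have hF : F.Finite := Groth.L21.RR.Top.finite_of_forall_isClosed (X := Y.toTopCat)
    (hBadc.preimage continuous_subtype_val) fun y hy => by
      by_contra hc
      exact hy ((Groth.L21.RR.eq_genericPoint_of_not_isClosed hdY.le hc) ▸ hη)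
  have hBad : Bad.Finite := (hF.image Subtype.val).subset fun y hy => ⟨⟨y, trivial⟩, hy, rfl⟩
  obtain ⟨z, N, s, hzF, hz, hN, hdeg, hs, hsy⟩ := exists_point_module k hd (g '' Bad) (hBad.image _)
  have hgη : g (genericPoint Y) ≠ z := fun h => by
    have hc : IsClosed (g ⁻¹' {z}) := hz.preimage g.continuous
    have huniv : ∀ y : Y, g y = z := fun y =>
      hc.closure_eq.le (closure_mono (Set.singleton_subset_iff.2 (show genericPoint Y ∈ g ⁻¹' {z} from h))
        (((genericPoint_spec Y).specializes (y := y) trivial).mem_closure))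
    haveI : Surjective g := MorphismProperty.of_isPullback (P := @Surjective) sq.flip
      (by infer_instance)
    obtain ⟨y, hy⟩ := g.surjective (genericPoint X)
    exact Groth.L22.CurveDeg.generic_not_isClosed hd ((hy.symm.trans (huniv y)) ▸ hz)
  obtain ⟨N₁, hN₁, ⟨ι⟩⟩ := Groth.L08.Cube.exists_inverse hN
  let A' := CohB1.tensorMod A N₁
  have hA' : PicF.IsInvertible A' := Groth.L18.GenLoc.isInvertible_tensor hA hN₁
  let εA : CohB1.tensorMod A' N ≅ A :=
    Groth.L00.Tensor.tensorAssoc A N₁ N ≪≫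
      Groth.L00.Tensor.tensorIso (Iso.refl A) (Groth.L00.Tensor.tensorComm N₁ N ≪≫ ι) ≪≫
      Groth.L00.Tensor.tensorUnitRight A
  let L' := tw g L A'
  have hL' : PicF.IsInvertible L' := isInvertible_tw g hL hA'
  let L₁ := (Scheme.Modules.pullback g).obj N
  have hL₁ : PicF.IsInvertible L₁ := Groth.L18.Ample.isInvertible_pullback g hN
  let ε : CohB1.tensorMod L' L₁ ≅ tw g L A :=
    (twTensor g L A' N).symm ≪≫
      Groth.L00.Tensor.tensorIso (Iso.refl L) ((Scheme.Modules.pullback g).mapIso εA)
  have hs' : pullSec g s ≠ 0 := pullSec_ne_zero g hN s _ (hsy _ hgη)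
  let ψ : L' ⟶ tw g L A := mulS L' (pullSec g s) ≫ ε.hom
  have hεs : ∀ y : Y, Function.Surjective (st ε.hom y) := fun y =>
    ((Groth.L21.Mod.isIso_iff_stalk_bijective ε.hom).1 inferInstance y).2
  have hψy : ∀ y, g y ≠ z → Function.Surjective (st ψ y) := fun y hy v => by
    obtain ⟨w, rfl⟩ := hεs y v
    obtain ⟨w', rfl⟩ := Groth.L21.RR.surjective_st_mulS (N := L') hL' hL₁
      (surjective_pullSec g hN s y (hsy _ hy)) w
    exact ⟨w', by simp only [ψ, st, Functor.map_comp]; rfl⟩
  have hψinj : ∀ y, Function.Injective (st ψ y) := fun y => by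
    have hcomp : ∀ v, st ψ y v = st ε.hom y (st (mulS L' (pullSec g s)) y v) := fun v => by
      simp only [ψ, st, Functor.map_comp]; rfl
    intro a b hab
    rw [hcomp, hcomp] at hab
    exact Groth.L21.RR.injective_st_mulS hL' hL₁ hs' y
      (((Groth.L21.Mod.isIso_iff_stalk_bijective ε.hom).1 inferInstance y).1 hab)
  haveI : Mono ψ := (Groth.L21.Mod.mono_iff_stalk_injective ψ).2 hψinj
  have hdL : Curv2.deg K Y (tw g L A) 1 = Curv2.deg K Y L' 1 + 1 := by
    rw [← Groth.L21.RR.deg_congr K ε,
      Groth.L22.CurveDeg.deg_tensor_of_section hdY.le hL' hL₁ hs', Groth.L21.RR.deg_pullback g sq hN, hdeg]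
  have hL'c := Groth.L16.ProperFinite.isCoh_of_isInvertible hL'
  haveI := Groth.L21.RR.finite_HH' K hL'c 0
  haveI := Groth.L21.RR.finite_HH' K hL'c 1
  have hinj : Function.Injective (hk K ψ 0) := Groth.L21.RR.injective_hmap_zero ψ
  have hns : ¬ Function.Surjective (hk K ψ 0) := by
    intro hsur
    obtain ⟨x, hx⟩ := hsur ((e0 (tw g L A)).symm (φ.app ⊤ (oneSec Y)))
    obtain ⟨φ', hφ'⟩ := Groth.L21.RR.exists_hom_of_hh0 x
    have hfac : φ' ≫ ψ = φ := Groth.L21.RR.hom_ext_one (by
      show ψ.app ⊤ (φ'.app ⊤ (oneSec Y)) = _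
      rw [hφ', ← Groth.L21.RR.e0_hmap]
      change e0 _ (hk K ψ 0 x) = _
      rw [hx, AddEquiv.apply_symm_apply])
    have hψz : ∀ y, Function.Surjective (st ψ y) := fun y => by
      by_cases hy : g y = z
      · intro v
        have hyG : y ∈ CohB1.genLocus _ φ := by
          by_contra hc
          exact hzF ⟨y, hc, hy⟩
        obtain ⟨w, rfl⟩ := (Groth.L21.RR.mem_genLocus_iff hM φ y).1 hyG v
        exact ⟨st φ' y w, by rw [← hfac]; simp only [st, Functor.map_comp]; rfl⟩
      · exact hψy y hy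
    haveI : IsIso ψ := (Groth.L21.Mod.isIso_iff_stalk_bijective ψ).2 fun y => ⟨hψinj y, hψz y⟩
    have := Groth.L21.RR.deg_congr K (asIso ψ) 1
    omega
  have hlt : h K 0 L' < h K 0 (tw g L A) := by
    refine lt_of_le_of_ne (LinearMap.finrank_le_finrank_of_injective hinj) fun he => hns ?_
    exact (LinearMap.injective_iff_surjective_of_finrank_eq_finrank he).1 hinj
  have heq : Curv2.euler K Y (tw g L A) = Curv2.euler K Y L' + 1 := by
    have := hdL
    simp only [Curv2.deg] at this
    push_cast at this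
    linarith
  rw [Groth.L21.RR.euler_eq K hdY.le, Groth.L21.RR.euler_eq K hdY.le,
    Groth.L21.RR.h_eq_zero_of_subsingleton K h1] at heq
  have hz1 : h K 1 L' = 0 := by omega
  exact ⟨A', hA', (show h K 0 L' = m by omega), Module.finrank_zero_iff.1 hz1⟩

end Twist

end Groth.L02.Twist
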